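import Groth.Agent.ResProp.EF.K624.Nodes
import Mathlib.RingTheory.HopfAlgebra.Basic
import Mathlib.RingTheory.TensorProduct.Maps

/-!
# Hopf algebras from group valued points on torsion-free algebras

`PtG k B`: a group structure, natural in the torsion-free `k`-algebra `R`, on `B →ₐ[k] R`.
If `k`, `B`, `B ⊗ B`, `B ⊗ (B ⊗ B)` are torsion-free, `B` gets a Hopf algebra structure (`PtG.hopf`) with
`(α ⊗ β) ∘ Δ = α * β` (`PtG.lift_comul`).
-/

set_option autoImplicit false

universe u

open TensorProduct

noncomputable section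

namespace Groth.Agent.ResProp.EF.K802

open Groth.Agent.ResProp.EF.K624

variable (k : Type u) [CommRing k] (B : Type u) [CommRing B] [Algebra k B]

/-- group valued points on torsion-free algebras -/
structure PtG where
  mul : ∀ {R : Type u} [CommRing R] [Algebra k R], TF R → (B →ₐ[k] R) → (B →ₐ[k] R) → (B →ₐ[k] R)
  one : ∀ {R : Type u} [CommRing R] [Algebra k R], TF R → (B →ₐ[k] R)
  inv : ∀ {R : Type u} [CommRing R] [Algebra k R], TF R → (B →ₐ[k] R) → (B →ₐ[k] R)
  mul_nat : ∀ {R R' : Type u} [CommRing R] [Algebra k R] [CommRing R'] [Algebra k R'] (h : TF R) (h' : TF R')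
    (f : R →ₐ[k] R') (α β : B →ₐ[k] R), f.comp (mul h α β) = mul h' (f.comp α) (f.comp β)
  one_nat : ∀ {R R' : Type u} [CommRing R] [Algebra k R] [CommRing R'] [Algebra k R'] (h : TF R) (h' : TF R')
    (f : R →ₐ[k] R'), f.comp (one h) = one h'
  inv_nat : ∀ {R R' : Type u} [CommRing R] [Algebra k R] [CommRing R'] [Algebra k R'] (h : TF R) (h' : TF R')
    (f : R →ₐ[k] R') (α : B →ₐ[k] R), f.comp (inv h α) = inv h' (f.comp α)
  assoc : ∀ {R : Type u} [CommRing R] [Algebra k R] (h : TF R) (α β γ : B →ₐ[k] R),
    mul h (mul h α β) γ = mul h α (mul h β γ)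
  one_mul : ∀ {R : Type u} [CommRing R] [Algebra k R] (h : TF R) (α : B →ₐ[k] R), mul h (one h) α = α
  mul_one : ∀ {R : Type u} [CommRing R] [Algebra k R] (h : TF R) (α : B →ₐ[k] R), mul h α (one h) = α
  inv_mul : ∀ {R : Type u} [CommRing R] [Algebra k R] (h : TF R) (α : B →ₐ[k] R), mul h (inv h α) α = one h
  mul_inv : ∀ {R : Type u} [CommRing R] [Algebra k R] (h : TF R) (α : B →ₐ[k] R), mul h α (inv h α) = one h

variable {k B}

/-- `(α, β)` -/
abbrev pair {R : Type u} [CommRing R] [Algebra k R] (α β : B →ₐ[k] R) : B ⊗[k] B →ₐ[k] R :=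
  Algebra.TensorProduct.lift α β fun _ _ => Commute.all _ _

theorem pair_left {R : Type u} [CommRing R] [Algebra k R] (α β : B →ₐ[k] R) :
    (pair α β).comp Algebra.TensorProduct.includeLeft = α := by
  ext a; simp [pair]

theorem pair_right {R : Type u} [CommRing R] [Algebra k R] (α β : B →ₐ[k] R) :
    (pair α β).comp Algebra.TensorProduct.includeRight = β := by
  ext a; simp [pair]

namespace PtG

variable (G : PtG k B) (h0 : TF k) (h1 : TF B) (h2 : TF (B ⊗[k] B)) (h3 : TF (B ⊗[k] (B ⊗[k] B)))

/-- comultiplication -/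
def comul : B →ₐ[k] B ⊗[k] B :=
  G.mul h2 (Algebra.TensorProduct.includeLeft) (Algebra.TensorProduct.includeRight)

/-- counit -/
def counit : B →ₐ[k] k := G.one h0

theorem pair_comul {R : Type u} [CommRing R] [Algebra k R] (hR : TF R) (α β : B →ₐ[k] R) :
    (pair α β).comp (G.comul h2) = G.mul hR α β := by
  rw [comul, G.mul_nat h2 hR, pair_left, pair_right]

theorem ofId_counit {R : Type u} [CommRing R] [Algebra k R] (hR : TF R) :
    (Algebra.ofId k R).comp (G.counit h0) = G.one hR := G.one_nat h0 hR _

/-- the bialgebra -/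
@[reducible]
def bialg : Bialgebra k B :=
  Bialgebra.ofAlgHom (G.comul h2) (G.counit h0)
    (by
      -- the three points
      let p1 : B →ₐ[k] B ⊗[k] (B ⊗[k] B) := Algebra.TensorProduct.includeLeft
      let q : (B ⊗[k] B) →ₐ[k] B ⊗[k] (B ⊗[k] B) := Algebra.TensorProduct.includeRight
      let p2 : B →ₐ[k] B ⊗[k] (B ⊗[k] B) := q.comp Algebra.TensorProduct.includeLeft
      let p3 : B →ₐ[k] B ⊗[k] (B ⊗[k] B) := q.comp Algebra.TensorProduct.includeRight
      have e1 : (Algebra.TensorProduct.map (.id k B) (G.comul h2)) = pair p1 (G.mul h3 p2 p3) := by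
        rw [← G.pair_comul h2 h3]
        apply Algebra.TensorProduct.ext'
        intro a b
        have hq : (pair p2 p3) = q := by
          apply Algebra.TensorProduct.ext'
          intro a b
          simp [pair, p2, p3, q]
        rw [hq]
        simp [pair, p1, q]
      have e2 : ((Algebra.TensorProduct.assoc k k k B B B).toAlgHom.comp
          (Algebra.TensorProduct.map (G.comul h2) (.id k B))) = pair (G.mul h3 p1 p2) p3 := by
        rw [← G.pair_comul h2 h3]
        apply Algebra.TensorProduct.ext'
        intro a b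
        have hx : ∀ x : B ⊗[k] B, (Algebra.TensorProduct.assoc k k k B B B) (x ⊗ₜ[k] b) = pair p1 p2 x * p3 b := by
          intro x
          induction x using TensorProduct.induction_on with
          | zero => simp
          | tmul x y => simp [pair, p1, p2, p3, q]
          | add x y hx hy => simp only [add_tmul, map_add, hx, hy, add_mul]
        simp only [AlgHom.comp_apply, Algebra.TensorProduct.map_tmul, AlgHom.id_apply]
        exact (hx _).trans (by simp [pair])
      have e3 : (Algebra.TensorProduct.assoc k k k B B B).toAlgHom.comp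
          ((Algebra.TensorProduct.map (G.comul h2) (.id k B)).comp (G.comul h2)) =
          ((Algebra.TensorProduct.assoc k k k B B B).toAlgHom.comp
            (Algebra.TensorProduct.map (G.comul h2) (.id k B))).comp (G.comul h2) := rfl
      rw [e3, e1, e2, G.pair_comul h2 h3, G.pair_comul h2 h3, G.assoc])
    (by
      have e : (Algebra.TensorProduct.lid k B).toAlgHom.comp
          (Algebra.TensorProduct.map (G.counit h0) (.id k B)) = pair (G.one h1) (AlgHom.id k B) := by
        rw [← G.ofId_counit h0 h1]
        apply Algebra.TensorProduct.ext'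
        intro a b
        simp [pair, Algebra.smul_def, Algebra.ofId_apply]
      have e2 : (Algebra.TensorProduct.lid k B).toAlgHom.comp
          ((Algebra.TensorProduct.map (G.counit h0) (.id k B)).comp (G.comul h2)) = AlgHom.id k B := by
        rw [← AlgHom.comp_assoc, e, G.pair_comul h2 h1, G.one_mul]
      refine AlgHom.ext fun a => (Algebra.TensorProduct.lid k B).injective ?_
      have := DFunLike.congr_fun e2 a
      simpa using this)
    (by
      have e : (Algebra.TensorProduct.rid k k B).toAlgHom.comp
          (Algebra.TensorProduct.map (.id k B) (G.counit h0)) = pair (AlgHom.id k B) (G.one h1) := by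
        rw [← G.ofId_counit h0 h1]
        apply Algebra.TensorProduct.ext'
        intro a b
        simp [pair, Algebra.smul_def, Algebra.ofId_apply, mul_comm]
      have e2 : (Algebra.TensorProduct.rid k k B).toAlgHom.comp
          ((Algebra.TensorProduct.map (.id k B) (G.counit h0)).comp (G.comul h2)) = AlgHom.id k B := by
        rw [← AlgHom.comp_assoc, e, G.pair_comul h2 h1, G.mul_one]
      refine AlgHom.ext fun a => (Algebra.TensorProduct.rid k k B).injective ?_
      have := DFunLike.congr_fun e2 a
      simpa using this)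

/-- the Hopf algebra -/
@[reducible]
def hopf : HopfAlgebra k B :=
  letI := G.bialg h0 h1 h2 h3
  HopfAlgebra.ofAlgHom (G.inv h1 (AlgHom.id k B))
    (by
      have := G.pair_comul h2 h1 (G.inv h1 (AlgHom.id k B)) (AlgHom.id k B)
      rw [G.inv_mul, ← G.ofId_counit h0 h1] at this
      exact this)
    (by
      have := G.pair_comul h2 h1 (AlgHom.id k B) (G.inv h1 (AlgHom.id k B))
      rw [G.mul_inv, ← G.ofId_counit h0 h1] at this
      exact this)

end PtG

end Groth.Agent.ResProp.EF.K802
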